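import Cfsg.Agent.Lib.BinaryAct.Basic
import Cfsg.Agent.Lib.BenderTrans.Basic
import Cfsg.Agent.Lib.Involutions.StronglyEmbedded

/-!
Binary actions of a simple group with one class of involutions whose point stabilisers have even
order: commuting involutions have the same fixed points, so the group acts on these fixed point sets
with every involution fixing exactly one of them.
-/

set_option autoImplicit false
set_option linter.style.haveILetI false
set_option linter.unusedSectionVars false

namespace CfsgLib.BinaryInvol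

open CfsgLib.BinaryAct CfsgLib.Involutions CfsgLib.BenderTrans MulAction
open scoped Pointwise

universe u

variable {G : Type u} [Group G] [Finite G] {H : Subgroup G}

/-- The fixed points of an element on the cosets. -/
abbrev Fx (H : Subgroup G) (t : G) : Set (G ⧸ H) := fixedBy (G ⧸ H) t

omit [Finite G] in
theorem fx_conj (g t : G) : Fx H (g * t * g⁻¹) = g • Fx H t := by
  ext x
  rw [Set.mem_smul_set_iff_inv_smul_mem]
  simp only [mem_fixedBy, mul_smul]
  constructor <;> intro e
  · exact eq_inv_smul_iff.2 e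
  · exact eq_inv_smul_iff.1 e

theorem ncard_fx_eq (hone : ∀ s t : G, orderOf s = 2 → orderOf t = 2 → IsConj s t) {s t : G}
    (hs : orderOf s = 2) (ht : orderOf t = 2) : (Fx H s).ncard = (Fx H t).ncard := by
  obtain ⟨g, rfl⟩ := isConj_iff.1 (hone s t hs ht)
  rw [fx_conj, Set.ncard_smul_set]

omit [Finite G] in
theorem fx_self_eq {t : G} (_ht : orderOf t = 2) : t • Fx H t = Fx H t := by
  rw [← fx_conj, mul_inv_cancel_right]

theorem fx_nonempty (hone : ∀ s t : G, orderOf s = 2 → orderOf t = 2 → IsConj s t)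
    (heven : Even (Nat.card H)) {t : G} (ht : orderOf t = 2) : (Fx H t).Nonempty := by
  obtain ⟨s, hsH, hs⟩ := exists_involution_of_even_card H heven
  obtain ⟨g, rfl⟩ := isConj_iff.1 (hone s t hs ht)
  refine ⟨(g : G ⧸ H), ?_⟩
  rw [mem_fixedBy, smul_eq_iff]
  simpa [mul_assoc] using hsH

variable (hb : IsBinary H) (hone : ∀ s t : G, orderOf s = 2 → orderOf t = 2 → IsConj s t)
include hb hone

/-- Commuting involutions fix the same points. -/
theorem fx_eq_of_commute {u v : G} (hu : orderOf u = 2) (hv : orderOf v = 2) (hc : Commute u v)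
    (hne : u ≠ v) : Fx H u = Fx H v := by
  classical
  set w := u * v with hw
  have hw2 : orderOf w = 2 := by
    refine orderOf_eq_two_iff_mul.2 ⟨fun e => hne ?_, ?_⟩
    · rw [hw, mul_eq_one_iff_eq_inv, inv_eq_self_of_involution hv] at e; exact e
    · calc u * v * (u * v) = (u * u) * (v * v) := by
            rw [mul_assoc, ← mul_assoc v u v, ← hc.eq]; group
        _ = 1 := by rw [mul_self_eq_one hu, mul_self_eq_one hv, one_mul]
  have hcard : ∀ {a b : G}, orderOf a = 2 → orderOf b = 2 → (Fx H a).ncard = (Fx H b).ncard :=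
    fun ha hb' => ncard_fx_eq hone ha hb'
  have key : ∀ A : Set (G ⧸ H), ∀ t : G, orderOf t = 2 → A ⊆ Fx H t → A.ncard = (Fx H t).ncard →
      A = Fx H t := fun A t _ hA e => Set.eq_of_subset_of_ncard_le hA e.ge (Set.toFinite _)
  let F : Set (G ⧸ H) := Fx H u ∪ Fx H v ∪ Fx H w
  rcases le_or_gt 2 (Nat.card F) with h2 | h2
  swap
  · have hsub : F.Subsingleton := by
      intro a ha b hb'
      by_contra hab
      have : 1 < F.ncard := (Set.one_lt_ncard (Set.toFinite _)).2 ⟨a, ha, b, hb', hab⟩
      rw [← Nat.card_coe_set_eq] at this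
      omega
    exact (key _ v hv (fun a ha => by
      obtain ⟨b, hb'⟩ : (Fx H v).Nonempty := by
        rw [← Set.ncard_pos, ← hcard hu hv, Set.ncard_pos]; exact ⟨a, ha⟩
      rwa [hsub (Or.inl (Or.inl ha)) (Or.inl (Or.inr hb'))]) (hcard hu hv))
  -- each point is moved to its image by two of the elements `1`, `u`, `v`
  let J : G ⧸ H → G ⧸ H := fun x => if x ∈ Fx H u ∪ Fx H v then x else u • x
  have hgood : ∀ x ∈ F, (J x = x ∧ (J x = u • x ∨ J x = v • x)) ∨ (J x = u • x ∧ J x = v • x) := by
    intro x hx
    by_cases hxu : x ∈ Fx H u ∪ Fx H v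
    · left
      have e : J x = x := if_pos hxu
      refine ⟨e, ?_⟩
      rcases hxu with h | h
      · exact Or.inl (e.trans h.symm)
      · exact Or.inr (e.trans h.symm)
    · right
      have e : J x = u • x := if_neg hxu
      have hxw : w • x = x := hx.resolve_left hxu
      refine ⟨e, e.trans ?_⟩
      calc u • x = u • w • x := by rw [hxw]
        _ = v • x := by rw [smul_smul, hw, ← mul_assoc, mul_self_eq_one hu, one_mul]
  obtain ⟨g, hg⟩ := hb.of_index (ι := F) h2 (fun x => (x : G ⧸ H)) (fun x => J x) (by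
    intro i j _
    rcases hgood _ i.2 with ⟨a, a'⟩ | ⟨a, a'⟩ <;> rcases hgood _ j.2 with ⟨b, b'⟩ | ⟨b, b'⟩
    · exact ⟨1, by rw [one_smul, a], by rw [one_smul, b]⟩
    · rcases a' with a' | a'
      · exact ⟨u, a'.symm, b.symm⟩
      · exact ⟨v, a'.symm, b'.symm⟩
    · rcases b' with b' | b'
      · exact ⟨u, a.symm, b'.symm⟩
      · exact ⟨v, a'.symm, b'.symm⟩
    · exact ⟨u, a.symm, b.symm⟩)
  have hfix : ∀ x ∈ Fx H u ∪ Fx H v, g • x = x := fun x hx =>
    (hg ⟨x, Or.inl hx⟩).trans (if_pos hx)
  have hmove : ∀ x ∈ Fx H w, g • x = u • x := fun x hx => by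
    refine (hg ⟨x, Or.inr hx⟩).trans ?_
    rcases hgood x (Or.inr hx) with ⟨a, a'⟩ | ⟨a, -⟩
    · rcases a' with a' | a'
      · exact a'
      · refine a'.trans ?_
        calc v • x = v • w • x := by rw [hx]
          _ = u • x := by
            rw [smul_smul, hw, hc.eq, ← mul_assoc, mul_self_eq_one hv, one_mul]
    · exact a
  rcases Nat.even_or_odd (orderOf g) with he | ho
  · have hh := orderOf_pow_half he
    have hsub : Fx H u ∪ Fx H v ⊆ Fx H (g ^ (orderOf g / 2)) := fun x hx => by
      have : g ∈ stabilizer G x := hfix x hx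
      exact pow_mem this _
    have e1 := key _ _ hh (Set.subset_union_left.trans hsub) (hcard hu hh)
    have e2 := key _ _ hh (Set.subset_union_right.trans hsub) (hcard hv hh)
    rw [e1, e2]
  · have hwu : Fx H w ⊆ Fx H u := fun x hx => by
      have hux : u • x ∈ Fx H w := by
        show w • u • x = u • x
        rw [smul_smul, hw, mul_assoc, ← hc.eq, mul_smul, hx]
      have h2x : g • g • x = x := by
        rw [hmove x hx, hmove _ hux, smul_smul, mul_self_eq_one hu, one_smul]
      show u • x = x
      rw [← hmove x hx]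
      obtain ⟨k, hk⟩ := ho
      have h3 : (g ^ (2 * k)) • x = x := by
        rw [pow_mul]
        exact pow_mem (show g ^ 2 ∈ stabilizer G x by rw [mem_stabilizer_iff, pow_two, mul_smul, h2x]) k
      have h4 : g ^ (2 * k + 1) = 1 := by rw [← hk, pow_orderOf_eq_one]
      calc g • x = g • g ^ (2 * k) • x := by rw [h3]
        _ = x := by rw [smul_smul, ← pow_succ', h4, one_smul]
    have e1 : Fx H w = Fx H u := key _ _ hu hwu (hcard hw2 hu)
    refine (key _ _ hv (fun x hx => ?_) (hcard hu hv))
    show v • x = x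
    have hxw : w • x = x := by rwa [← e1] at hx
    calc v • x = u • w • x := by rw [smul_smul, hw, ← mul_assoc, mul_self_eq_one hu, one_mul]
      _ = x := by rw [hxw]; exact hx

/-- An involution stabilising the fixed point set of another has the same fixed points. -/
theorem fx_eq_of_smul {t u : G} (ht : orderOf t = 2) (hu : orderOf u = 2)
    (h : t • Fx H u = Fx H u) : Fx H t = Fx H u := by
  have hcomm : ∀ {a b : G}, orderOf a = 2 → orderOf b = 2 → Commute a b → Fx H a = Fx H b :=
    fun {a b} ha hb' hab => by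
      rcases eq_or_ne a b with e | e
      · rw [e]
      · exact fx_eq_of_commute hb hone ha hb' hab e
  rcases Nat.even_or_odd (orderOf (t * u)) with he | ho
  · obtain ⟨hz, hzt, hzu⟩ := central_involution ht hu he
    exact (hcomm ht hz hzt.symm).trans (hcomm hz hu hzu)
  · obtain ⟨d, hd, hdt⟩ := conj_of_odd_order ht hu ho
    have hstab : d ∈ stabilizer G (Fx H u) := by
      refine (Subgroup.closure_le _).2 ?_ hd
      rintro x (rfl | rfl)
      · exact h
      · exact fx_self_eq hu
    have e : d • Fx H t = Fx H u := by rw [← fx_conj, hdt]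
    exact smul_left_cancel d (e.trans (mem_stabilizer_iff.1 hstab).symm)

variable (H) in
omit hb hone [Finite G] in
/-- The fixed point sets of involutions, as a subset stable under the group. -/
def centreSets : SubMulAction G (Set (G ⧸ H)) where
  carrier := {S | ∃ t, orderOf t = 2 ∧ Fx H t = S}
  smul_mem' g S := by
    rintro ⟨t, ht, rfl⟩
    exact ⟨g * t * g⁻¹, (orderOf_conj_eq g t).trans ht, fx_conj g t⟩

/-- Every involution fixes exactly one of the fixed point sets. -/
theorem oneFix (heven : Even (Nat.card H)) (hH : H ≠ ⊤) [IsSimpleGroup G] :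
    OneFix G (centreSets H) where
  trans := by
    rintro ⟨_, s, hs, rfl⟩ ⟨_, t, ht, rfl⟩
    obtain ⟨g, hg⟩ := isConj_iff.1 (hone s t hs ht)
    refine ⟨g, Subtype.ext ?_⟩
    show g • Fx H s = Fx H t
    rw [← hg, fx_conj]
  nontriv := by
    rintro ⟨_, s, hs, rfl⟩
    by_contra hcon
    push Not at hcon
    obtain ⟨x, hx⟩ := fx_nonempty hone heven hs
    set N : Subgroup G := Subgroup.normalClosure ({s} : Set G) with hN
    have hle : N ≤ stabilizer G x := by
      refine (Subgroup.closure_le _).2 ?_
      intro y hy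
      obtain ⟨a, ha, hay⟩ := Group.mem_conjugatesOfSet_iff.1 hy
      obtain rfl := Set.mem_singleton_iff.1 ha
      obtain ⟨g, rfl⟩ := isConj_iff.1 hay
      have h1 := congrArg Subtype.val
        (hcon ⟨Fx H (g * a * g⁻¹), g * a * g⁻¹, (orderOf_conj_eq g a).trans hs, rfl⟩)
      show g * a * g⁻¹ ∈ stabilizer G x
      have h2 : Fx H (g * a * g⁻¹) = Fx H a := h1
      show x ∈ Fx H (g * a * g⁻¹)
      rw [h2]
      exact hx
    have hNtop : N = ⊤ := by
      refine (IsSimpleGroup.eq_bot_or_eq_top_of_normal N Subgroup.normalClosure_normal).resolve_left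
        fun e => ne_one_of_involution hs ?_
      have : s ∈ N := Subgroup.subset_normalClosure (Set.mem_singleton s)
      rwa [e, Subgroup.mem_bot] at this
    refine hH (eq_top_iff.2 fun g _ => ?_)
    obtain ⟨y, rfl⟩ := QuotientGroup.mk_surjective x
    have h1 : y * g * y⁻¹ ∈ stabilizer G (y : G ⧸ H) := hle (hNtop ▸ Subgroup.mem_top _)
    rw [mem_stabilizer_iff, smul_eq_iff] at h1
    simpa [mul_assoc] using h1
  exists_inv := by
    obtain ⟨t, -, ht⟩ := exists_involution_of_even_card H heven
    exact ⟨t, ht⟩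
  exists_fix t ht := ⟨⟨Fx H t, t, ht, rfl⟩, Subtype.ext (fx_self_eq ht)⟩
  unique := by
    rintro t ht ⟨_, a, ha, rfl⟩ ⟨_, b, hb', rfl⟩ hta htb
    exact Subtype.ext ((fx_eq_of_smul hb hone ht ha (congrArg Subtype.val hta)).symm.trans
      (fx_eq_of_smul hb hone ht hb' (congrArg Subtype.val htb)))

end CfsgLib.BinaryInvol
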