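import Cfsg.Agent.Lib.BinaryInvol.Fix
import Cfsg.Agent.Lib.BenderQ.Classify
import Cfsg.Agent.Lib.BenderQ.Bender

/-!
A simple group with one class of involutions and a binary action whose point stabilisers have even
order is of Bender type.
-/

set_option autoImplicit false
set_option linter.style.haveILetI false
set_option linter.unusedSectionVars false

namespace CfsgLib.BinaryInvol

open CfsgLib.BinaryAct CfsgLib.Involutions CfsgLib.BenderTrans MulAction
open scoped Pointwise

universe u

variable {G : Type u} [Group G] [Finite G]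

/-- A point stabiliser of an action with every involution fixing exactly one point is strongly
embedded. -/
theorem stronglyEmbedded_stabilizer {Ω : Type u} [MulAction G Ω] (h : OneFix G Ω) (c : Ω) :
    Cfsg.IsStronglyEmbedded (stabilizer G c) := by
  refine ⟨fun e => ?_, ?_, fun g hg => ?_⟩
  · obtain ⟨y, hy⟩ := h.nontriv c
    obtain ⟨g, rfl⟩ := h.trans c y
    exact hy (mem_stabilizer_iff.1 (e ▸ Subgroup.mem_top g))
  · obtain ⟨t, ht⟩ := h.exists_invAt c
    rw [even_iff_two_dvd, ← ht.1]
    exact Subgroup.orderOf_dvd_natCard _ (show t ∈ stabilizer G c from ht.2)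
  · have hne : c ≠ g • c := fun e => hg e.symm
    have e : (stabilizer G c).map (MulAut.conj g).toMonoidHom = stabilizer G (g • c) :=
      (stabilizer_smul_eq_stabilizer_map_conj g c).symm
    rw [e]
    exact h.odd_two hne

theorem exists_noncomm_of_simple [IsSimpleGroup G] {H : Subgroup G} (hH : H ≠ ⊤)
    (heven : Even (Nat.card H)) : ∃ a b : G, a * b ≠ b * a := by
  by_contra hcon
  push Not at hcon
  have hn : H.Normal := ⟨fun x hx g => by rwa [hcon g x, mul_inv_cancel_right]⟩
  rcases IsSimpleGroup.eq_bot_or_eq_top_of_normal H hn with e | e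
  · rw [e, Subgroup.card_bot] at heven
    exact absurd heven (by decide)
  · exact hH e

/-- The group is of Bender type. -/
theorem isBenderType (hR : BenderQ.RankOneClass.{u}) [IsSimpleGroup G] {H : Subgroup G}
    (hb : IsBinary H) (hone : ∀ s t : G, orderOf s = 2 → orderOf t = 2 → IsConj s t)
    (hH : H ≠ ⊤) (heven : Even (Nat.card H)) : BenderQ.IsBenderType G := by
  have h := oneFix hb hone heven hH
  obtain ⟨t, ht⟩ := h.exists_inv
  obtain ⟨c, -⟩ := h.exists_fix t ht
  exact BenderQ.simple_isBenderType BenderQ.benderKernel hR (exists_noncomm_of_simple hH heven)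
    (stronglyEmbedded_stabilizer h c)

end CfsgLib.BinaryInvol
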